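import Groth.Agent.GrpScheme.Smooth
import Groth.Agent.GrpScheme.HomFlat
import Groth.Agent.GrpScheme.SubgroupObj
import Groth.Agent.GrpScheme.AntiAffineProd
import Groth.Agent.GrpAff.Reduced
import Groth.Agent.RedSub.Basic
import Groth.Agent.SchPoints.Basic

/-!
Groups over an algebraically closed field whose quotient map has kernel inside a good subscheme.
-/

set_option autoImplicit false
set_option backward.isDefEq.respectTransparency.types false

universe u

noncomputable section

open CategoryTheory MonoidalCategory CartesianMonoidalCategory MonObj GrpObj AlgebraicGeometry Limits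

namespace Groth.Agent.PullSub

variable {K : Type u} [Field K] [IsAlgClosed K] {P H C : Over (Spec (CommRingCat.of K))}
  [GrpObj P] [GrpObj H] [LocallyOfFiniteType P.hom] [QuasiCompact P.hom] [LocallyOfFiniteType H.hom]
  (π : P ⟶ H) [IsMonHom π] [Flat π.left] [Surjective π.left] (g₀ : C ⟶ P)
  (hker : ∀ (T : Over (Spec (CommRingCat.of K))) (x : T ⟶ P), x ≫ π = 1 → ∃ c, c ≫ g₀ = x)

include hker in
theorem smooth_of_kernel [Smooth C.hom] [Smooth H.hom] : Smooth P.hom := by
  have := GrpScheme.HomFlat.isReduced_of_smooth C.hom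
  have := GrpScheme.HomFlat.isReduced_of_smooth H.hom
  have : IsSeparated P.hom := GrpdLib.GrpOver.isSeparated_hom P
  have := LocallyOfFiniteType.jacobsonSpace P.hom
  let I := Scheme.IdealSheafData.vanishingIdeal (⊤ : TopologicalSpace.Closeds P.left)
  let R : Over (Spec (CommRingCat.of K)) := Over.mk (I.subschemeι ≫ P.hom)
  let i : R ⟶ P := Over.homMk I.subschemeι rfl
  have hi : IsClosedImmersion i.left := inferInstanceAs (IsClosedImmersion I.subschemeι)
  have : Mono i := Over.mono_of_mono_left i
  have his : Function.Surjective i.left := fun x => by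
    have : x ∈ Set.range I.subschemeι := by rw [RedSub.range_vanishingIdeal_subschemeι]; trivial
    exact this
  have hRred : IsReduced R.left := inferInstanceAs (IsReduced I.subscheme)
  have : LocallyOfFiniteType R.hom := inferInstanceAs (LocallyOfFiniteType (I.subschemeι ≫ P.hom))
  have : QuasiCompact R.hom := inferInstanceAs (QuasiCompact (I.subschemeι ≫ P.hom))
  have : IsReduced (R ⊗ R).left :=
    GrpScheme.RatDense.isReduced_pullback R.hom (GrpAff.dense_ratPoints R) R.hom
  have : IsReduced (𝟙_ (Over (Spec (CommRingCat.of K)))).left :=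
    inferInstanceAs (IsReduced (Spec (CommRingCat.of K)))
  obtain ⟨hR, hiM⟩ := GrpScheme.SubgroupObj.exists_grpObj i (GrpAff.exists_lift_univ i his _)
    (GrpAff.exists_lift_univ i his _) (GrpAff.exists_lift_univ i his _)
  have : IsMonHom i := hiM
  have : Surjective (i ≫ π).left := by
    rw [Over.comp_left]
    have : Surjective i.left := ⟨his⟩
    infer_instance
  have : Flat (i ≫ π).left := GrpScheme.HomFlat.flat_of_surjective (i ≫ π)
  have hc : UnipLib.Cover (i ≫ π) := ⟨inferInstance, inferInstance, GrpdLib.GrpOver.quasiCompact_left (i ≫ π)⟩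
  obtain ⟨T₁, r, z, hr, hz⟩ := hc.exists_cover π
  have hk : (r * (z ≫ i)⁻¹) ≫ π = 1 := by
    rw [MonObj.mul_comp, GrpObj.inv_comp, Category.assoc, hz, mul_inv_cancel]
  obtain ⟨c, hc'⟩ := hker T₁ _ hk
  obtain ⟨cR, hcR⟩ := GrpAff.exists_lift_univ i his g₀
  obtain ⟨y, hy⟩ := GrpScheme.AntiAffineProd.exists_lift_of_cover hr i (𝟙 P) ((c ≫ cR) * z) (by
    rw [MonObj.mul_comp, Category.assoc, hcR, hc', inv_mul_cancel_right, Category.comp_id])
  have : IsIso i := ⟨y, by rw [← cancel_mono i, Category.assoc, hy, Category.comp_id, Category.id_comp], hy⟩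
  have : IsIso i.left := inferInstanceAs (IsIso ((Over.forget _).map i))
  have : IsReduced P.left := isReduced_of_isOpenImmersion (inv i.left)
  exact GrpScheme.Smooth.smooth_of_perfectField P

include hker in
theorem connected_of_kernel [LocallyOfFinitePresentation π.left] [ConnectedSpace C.left] [ConnectedSpace H.left] :
    ConnectedSpace P.left := by
  have := LocallyOfFiniteType.jacobsonSpace P.hom
  have := LocallyOfFiniteType.jacobsonSpace H.hom
  have : CompactSpace P.left := (quasiCompact_iff_compactSpace P.hom).1 inferInstance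
  have := LocallyOfFiniteType.isLocallyNoetherian P.hom
  have : IsNoetherian P.left := { }
  let o : Spec (CommRingCat.of K) := IsLocalRing.closedPoint K
  let pt : (𝟙_ (Over (Spec (CommRingCat.of K))) ⟶ P) → P.left := fun x => x.left o
  let e : P.left := pt 1
  let W := connectedComponent e
  have hW1 : IsClosed W := isClosed_connectedComponent
  have hW2 : IsOpen W := SchPoints.isOpen_connectedComponent_of_noetherian e
  have hCW : ∀ x : 𝟙_ (Over (Spec (CommRingCat.of K))) ⟶ P, x ≫ π = 1 → pt x ∈ W := by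
    intro x hx
    obtain ⟨c, hc⟩ := hker _ x hx
    obtain ⟨c₁, hc₁⟩ := hker _ (1 : 𝟙_ (Over (Spec (CommRingCat.of K))) ⟶ P) (MonObj.one_comp π)
    have hp := isPreconnected_range (α := C.left) g₀.left.continuous
    refine hp.subset_connectedComponent ⟨c₁.left o, ?_⟩ ⟨c.left o, ?_⟩
    · show g₀.left (c₁.left o) = e
      rw [← Scheme.Hom.comp_apply, ← Over.comp_left, hc₁]
    · show g₀.left (c.left o) = pt x
      rw [← Scheme.Hom.comp_apply, ← Over.comp_left, hc]
  have hmul : ∀ x y : 𝟙_ (Over (Spec (CommRingCat.of K))) ⟶ P, pt x ∈ W → pt y ∈ W → pt (x * y) ∈ W := by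
    intro x y hx hy
    let r : P ⟶ P := 𝟙 P * (toUnit P ≫ y)
    have hr : ∀ a, r.left (pt a) = pt (a * y) := fun a => by
      show r.left (a.left o) = (a * y).left o
      rw [← Scheme.Hom.comp_apply, ← Over.comp_left]
      congr 1
      rw [show a ≫ r = a * y by
        rw [MonObj.comp_mul, Category.comp_id, ← Category.assoc, toUnit_unique (a ≫ toUnit P) (𝟙 _),
          Category.id_comp]]
    have himg : _root_.IsPreconnected (r.left '' W) :=
      isPreconnected_connectedComponent.image _ r.left.continuous.continuousOn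
    have h1 : pt (1 * y) ∈ r.left '' W := ⟨e, mem_connectedComponent, hr 1⟩
    rw [_root_.one_mul] at h1
    have h2 := himg.subset_connectedComponent h1 ⟨pt x, hx, hr x⟩
    rw [← connectedComponent_eq hy] at h2
    exact h2
  have hopen : IsOpenMap π.left := π.left.isOpenMap
  have hdisj : π.left '' W ∩ π.left '' Wᶜ = ∅ := by
    by_contra h
    obtain ⟨q, hq, hqc⟩ := nonempty_inter_closedPoints (Z := π.left '' W ∩ π.left '' Wᶜ)
      (Set.nonempty_iff_ne_empty.mpr h) (((hopen _ hW2).inter (hopen _ hW1.isOpen_compl)).isLocallyClosed)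
    obtain ⟨ha, hb⟩ := hq
    have key : ∀ (Z : Set P.left), IsLocallyClosed Z → q ∈ π.left '' Z →
        ∃ a : 𝟙_ (Over (Spec (CommRingCat.of K))) ⟶ P, pt a ∈ Z ∧ π.left (pt a) = q := by
      intro Z hZ hqZ
      obtain ⟨p, hp, hpq⟩ := hqZ
      obtain ⟨p', ⟨hp'Z, hp'q⟩, hp'c⟩ := nonempty_inter_closedPoints (Z := Z ∩ π.left ⁻¹' {q})
        ⟨p, hp, hpq⟩ (hZ.inter ((show IsClosed {q} from hqc).preimage π.left.continuous).isLocallyClosed)
      obtain ⟨a, ha⟩ := GrpAff.exists_point P hp'c
      exact ⟨a, by show a.left o ∈ Z; rw [ha o]; exact hp'Z, by show π.left (a.left o) = q; rw [ha o]; exact hp'q⟩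
    obtain ⟨a, haW, haq⟩ := key W hW2.isLocallyClosed ha
    obtain ⟨b, hbW, hbq⟩ := key Wᶜ hW1.isOpen_compl.isLocallyClosed hb
    have hab : b ≫ π = a ≫ π := by
      refine Over.OverMorphism.ext (ext_of_apply_closedPoint_eq H.hom (Over.w _) (Over.w _) ?_)
      show π.left (b.left o) = π.left (a.left o)
      exact hbq.trans haq.symm
    have hk : (b * a⁻¹) ≫ π = 1 := by rw [MonObj.mul_comp, GrpObj.inv_comp, hab, mul_inv_cancel]
    have := hmul _ a (hCW _ hk) haW
    rw [inv_mul_cancel_right] at this
    exact hbW this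
  have hWU : W = Set.univ := by
    by_contra hne
    obtain ⟨p, hp⟩ : (Wᶜ).Nonempty := Set.nonempty_compl.mpr hne
    have hcl : IsClopen (π.left '' W) := by
      refine ⟨?_, hopen _ hW2⟩
      have : π.left '' W = (π.left '' Wᶜ)ᶜ := by
        refine Set.Subset.antisymm (fun q hq hq' => (Set.eq_empty_iff_forall_notMem.mp hdisj) q ⟨hq, hq'⟩)
          fun q hq => ?_
        obtain ⟨p', rfl⟩ := π.left.surjective q
        by_cases hp' : p' ∈ W
        · exact ⟨p', hp', rfl⟩
        · exact absurd ⟨p', hp', rfl⟩ hq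
      rw [this]
      exact (hopen _ hW1.isOpen_compl).isClosed_compl
    have huniv : π.left '' W = Set.univ :=
      hcl.eq_univ ⟨π.left e, e, mem_connectedComponent, rfl⟩
    exact (Set.eq_empty_iff_forall_notMem.mp hdisj) (π.left p) ⟨by rw [huniv]; trivial, p, hp, rfl⟩
  exact connectedSpace_iff_connectedComponent.mpr ⟨e, hWU⟩

end Groth.Agent.PullSub
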