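import Groth.Agent.PullSub.Field
import Groth.Agent.GrpScheme.FlatFib.Scheme
import Groth.Agent.DiagRig.BCPts
import Groth.Agent.DiagRig.AgreeGraph
import Groth.Agent.GrpGen19.Basic
import Groth.Prelude.Def_Red

/-!
Smoothness and connectedness of inverse images of subgroups.
-/

set_option autoImplicit false
set_option backward.isDefEq.respectTransparency.types false

universe u

noncomputable section

open CategoryTheory MonoidalCategory CartesianMonoidalCategory MonObj GrpObj AlgebraicGeometry Limits
open Groth.Agent.DiagRig

namespace Groth.Agent.PullSub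

/-- the scheme fibre receives the geometric one surjectively -/
theorem exists_geom_to_fiber {S : Scheme.{u}} (X : Over S) (s : S) :
    ∃ a : (Red.geomFibre s X).left ⟶ X.hom.fiber s,
      IsPullback a (Red.geomFibre s X).hom (X.hom.fiberToSpecResidueField s)
        (Spec.map (CommRingCat.ofHom (algebraMap (S.residueField s) (AlgebraicClosure (S.residueField s))))) := by
  let i := pullbackLeftPullbackSndIso X.hom (S.fromSpecResidueField s)
    (Spec.map (CommRingCat.ofHom (algebraMap (S.residueField s) (AlgebraicClosure (S.residueField s)))))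
  refine ⟨i.inv ≫ pullback.fst _ _, ?_⟩
  refine (IsPullback.of_hasPullback (X.hom.fiberToSpecResidueField s) _).of_iso i (Iso.refl _) (Iso.refl _)
    (Iso.refl _) ?_ ?_ ?_ ?_
  · exact (Category.comp_id _).trans (Iso.hom_inv_id_assoc i _).symm
  · exact ((Category.comp_id _).trans (pullbackLeftPullbackSndIso_hom_snd _ _ _).symm)
  · simp
  · simp

variable {S : Scheme.{u}} {P H C : Over S} [GrpObj P] [GrpObj H]

theorem geom_facts [LocallyOfFinitePresentation H.hom] [QuasiCompact H.hom] (π : P ⟶ H) [IsMonHom π]
    [Flat π.left] [Surjective π.left] [LocallyOfFinitePresentation π.left] [QuasiCompact π.left]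
    (g₀ : C ⟶ P) (hker : ∀ (T : Over S) (x : T ⟶ P), x ≫ π = 1 → ∃ c, c ≫ g₀ = x) (s : S) :
    (Smooth C.hom → Smooth H.hom → Smooth (Red.geomFibre s P).hom) ∧
    (ConnectedSpace ↥(Red.geomFibre s C).left → ConnectedSpace ↥(Red.geomFibre s H).left →
      ConnectedSpace ↥(Red.geomFibre s P).left) := by
  let b := Red.geomPt s
  let π' : Red.bc b P ⟶ Red.bc b H := (Over.pullback b).map π
  let g' : Red.bc b C ⟶ Red.bc b P := (Over.pullback b).map g₀
  have hP : P.hom = π.left ≫ H.hom := (Over.w π).symm
  have : LocallyOfFinitePresentation P.hom := by rw [hP]; infer_instance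
  have : QuasiCompact P.hom := by rw [hP]; infer_instance
  have : LocallyOfFiniteType (Red.bc b P).hom := inferInstanceAs (LocallyOfFiniteType (pullback.snd P.hom b))
  have : QuasiCompact (Red.bc b P).hom := inferInstanceAs (QuasiCompact (pullback.snd P.hom b))
  have : LocallyOfFiniteType (Red.bc b H).hom := inferInstanceAs (LocallyOfFiniteType (pullback.snd H.hom b))
  have : IsMonHom π' := by dsimp [π']; infer_instance
  have sq : IsPullback (pullback.fst P.hom b) π'.left π.left (pullback.fst H.hom b) := by
    refine IsPullback.of_bot ?_ (pullback.lift_fst _ _ _).symm (IsPullback.of_hasPullback H.hom b)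
    rw [show π'.left ≫ pullback.snd H.hom b = pullback.snd P.hom b from Over.w π', Over.w π]
    exact IsPullback.of_hasPullback P.hom b
  have : Flat π'.left := MorphismProperty.of_isPullback (P := @Flat) sq inferInstance
  have : Surjective π'.left := MorphismProperty.of_isPullback (P := @Surjective) sq inferInstance
  have : LocallyOfFinitePresentation π'.left :=
    MorphismProperty.of_isPullback (P := @LocallyOfFinitePresentation) sq inferInstance
  have hker' : ∀ (T : Over (Spec (CommRingCat.of (AlgebraicClosure (S.residueField s))))) (x : T ⟶ Red.bc b P),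
      x ≫ π' = 1 → ∃ c, c ≫ g' = x := by
    intro T x hx
    obtain ⟨c, hc⟩ := hker _ (bcTr b x) (by
      have h := congrArg (bcTr b) hx
      rwa [bcTr_map, bcTr_one] at h)
    exact ⟨bcUn b c, bcTr_injective b (by rw [bcTr_map, bcTr_bcUn, hc])⟩
  refine ⟨fun hC hH => ?_, fun hC hH => ?_⟩
  · have : Smooth (Red.bc b C).hom := inferInstanceAs (Smooth (pullback.snd C.hom b))
    have : Smooth (Red.bc b H).hom := inferInstanceAs (Smooth (pullback.snd H.hom b))
    exact smooth_of_kernel π' g' hker'
  · have := hC
    have := hH
    exact connected_of_kernel π' g' hker'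

theorem connected_fiber_geom (X : Over S) (s : S) [LocallyOfFiniteType X.hom]
    (x : 𝟙_ (Over S) ⟶ X) (h : _root_.IsConnected (X.hom.base ⁻¹' {s})) :
    ConnectedSpace ↥(Red.geomFibre s X).left := by
  let Xs : Over (Spec (S.residueField s)) := Over.mk (X.hom.fiberToSpecResidueField s)
  have : ConnectedSpace Xs.left := by
    have h' : _root_.IsConnected (Set.range (X.hom.fiberι s)) := by rw [Scheme.Hom.range_fiberι]; exact h
    have he := (X.hom.fiberι s).isEmbedding
    rw [← Set.image_univ] at h'
    exact connectedSpace_iff_univ.mpr ⟨Set.image_nonempty.mp h'.1, he.isInducing.isPreconnected_image.mp h'.2⟩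
  let pt : 𝟙_ (Over (Spec (CommRingCat.of (S.residueField s)))) ⟶ Xs :=
    Over.homMk (pullback.lift (S.fromSpecResidueField s ≫ x.left) (𝟙 _) (by
      rw [Category.assoc, Over.w x, Category.id_comp]; exact Category.comp_id _)) (pullback.lift_snd _ _ _)
  have : GeometricallyConnected Xs.hom := GrpGen19.geometricallyConnected_of_point pt
  obtain ⟨a, ha⟩ := exists_geom_to_fiber X s
  let e := ha.isoPullback
  have : ConnectedSpace ↥(pullback (X.hom.fiberToSpecResidueField s)
      (Spec.map (CommRingCat.ofHom (algebraMap (S.residueField s) (AlgebraicClosure (S.residueField s)))))) :=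
    inferInstanceAs (ConnectedSpace ↥(pullback Xs.hom _))
  exact e.inv.homeomorph.surjective.connectedSpace e.inv.continuous

theorem connected_fibre_of_geom (X : Over S) (s : S) (h : ConnectedSpace ↥(Red.geomFibre s X).left) :
    _root_.IsConnected (X.hom.base ⁻¹' {s}) := by
  obtain ⟨a, ha⟩ := exists_geom_to_fiber X s
  have : Surjective (Spec.map (CommRingCat.ofHom
      (algebraMap (S.residueField s) (AlgebraicClosure (S.residueField s))))) := inferInstance
  have : Surjective a := MorphismProperty.of_isPullback (P := @Surjective) ha.flip inferInstance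
  have : ConnectedSpace ↥(X.hom.fiber s) := a.surjective.connectedSpace a.continuous
  rw [← Scheme.Hom.range_fiberι]
  exact isConnected_range (X.hom.fiberι s).continuous

theorem smooth_of_geom [Flat P.hom] [LocallyOfFinitePresentation P.hom]
    (h : ∀ s, Smooth (Red.geomFibre s P).hom) : Smooth P.hom := by
  refine Smooth.of_smooth_fiberToSpecResidueField _ fun s => ?_
  obtain ⟨a, ha⟩ := exists_geom_to_fiber P s
  exact MorphismProperty.of_isPullback_of_descendsAlong (P := @Smooth)
    (Q := @Surjective ⊓ @Flat ⊓ @QuasiCompact) ha.flip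
    ⟨⟨inferInstance, (HasRingHomProperty.Spec_iff (P := @Flat)).mpr
      (RingHom.flat_algebraMap_iff.mpr inferInstance)⟩, inferInstance⟩ (h s)

theorem pullback_sub {G G' C' H' : Over S} [GrpObj G] [GrpObj G'] [GrpObj C'] [GrpObj H']
    [Flat G'.hom] [LocallyOfFinitePresentation G'.hom] [LocallyOfFinitePresentation G.hom] [QuasiCompact G.hom]
    [QuasiSeparated G'.hom]
    (u : G ⟶ G') [IsMonHom u] [Flat u.left] [Surjective u.left]
    (c' : C' ⟶ G') [IsMonHom c'] [Mono c'] [LocallyOfFinitePresentation C'.hom]
    (h' : H' ⟶ G') [IsMonHom h'] [Mono h'] [QuasiCompact H'.hom] [LocallyOfFinitePresentation H'.hom]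
    (hle : ∃ f : C' ⟶ H', f ≫ h' = c') :
    (Smooth (Limits.pullback c' u).hom → Smooth H'.hom → Smooth (Limits.pullback h' u).hom) ∧
    ((∀ s : S, _root_.IsConnected ((Limits.pullback c' u).hom.base ⁻¹' {s})) →
      (∀ s : S, _root_.IsConnected (H'.hom.base ⁻¹' {s})) →
      ∀ s : S, _root_.IsConnected ((Limits.pullback h' u).hom.base ⁻¹' {s})) := by
  obtain ⟨f, hf⟩ := hle
  let P := Limits.pullback h' u
  let C := Limits.pullback c' u
  let incl : P ⟶ G := pullback.snd h' u
  have hcond : ∀ {T : Over S} (x : T ⟶ P), x ≫ pullback.fst h' u ≫ h' = (x ≫ incl) ≫ u := fun x => by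
    rw [Category.assoc, pullback.condition]
  obtain ⟨gP, hincl⟩ := GrpScheme.SubgroupObj.exists_grpObj incl
    ⟨pullback.lift ((pullback.fst h' u ⊗ₘ pullback.fst h' u) ≫ μ[H']) ((incl ⊗ₘ incl) ≫ μ[G]) (by
      rw [Category.assoc, Category.assoc, IsMonHom.mul_hom, IsMonHom.mul_hom]
      simp only [← Category.assoc, MonoidalCategory.tensorHom_comp_tensorHom]
      rw [pullback.condition]), pullback.lift_snd _ _ _⟩
    ⟨pullback.lift η[H'] η[G] (by rw [IsMonHom.one_hom, IsMonHom.one_hom]), pullback.lift_snd _ _ _⟩
    ⟨pullback.lift (pullback.fst h' u ≫ ι[H']) (incl ≫ ι[G]) (by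
      rw [Category.assoc, Category.assoc, GrpObj.inv_hom, GrpObj.inv_hom, ← Category.assoc,
        ← Category.assoc, pullback.condition]), pullback.lift_snd _ _ _⟩
  let π : P ⟶ H' := pullback.fst h' u
  have : IsMonHom π := isMonHom_of_pts _ fun Y x y => by
    rw [← cancel_mono h', MonObj.mul_comp (x ≫ π), Category.assoc, Category.assoc, Category.assoc, hcond, hcond,
      hcond, MonObj.mul_comp _ _ incl, MonObj.mul_comp]
  have sq : IsPullback π.left incl.left h'.left u.left :=
    IsPullback.map (Over.forget S) (IsPullback.of_hasPullback h' u)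
  have : LocallyOfFinitePresentation u.left := by
    have : LocallyOfFinitePresentation (u.left ≫ G'.hom) := by rw [Over.w u]; infer_instance
    exact GrpScheme.FlatFib.locallyOfFinitePresentation_of_comp u.left G'.hom
  have : QuasiCompact u.left := by
    have : QuasiCompact (u.left ≫ G'.hom) := by rw [Over.w u]; infer_instance
    exact QuasiCompact.of_comp u.left G'.hom
  have : Flat π.left := MorphismProperty.of_isPullback (P := @Flat) sq.flip inferInstance
  have : Surjective π.left := MorphismProperty.of_isPullback (P := @Surjective) sq.flip inferInstance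
  have : LocallyOfFinitePresentation π.left :=
    MorphismProperty.of_isPullback (P := @LocallyOfFinitePresentation) sq.flip inferInstance
  have : QuasiCompact π.left := MorphismProperty.of_isPullback (P := @QuasiCompact) sq.flip inferInstance
  let g₀ : C ⟶ P := pullback.lift (pullback.fst c' u ≫ f) (pullback.snd c' u) (by
    rw [Category.assoc, hf, pullback.condition])
  have hker : ∀ (T : Over S) (x : T ⟶ P), x ≫ π = 1 → ∃ c, c ≫ g₀ = x := by
    intro T x hx
    have hu : (x ≫ incl) ≫ u = 1 := by
      rw [← hcond, ← Category.assoc, show x ≫ pullback.fst h' u = 1 from hx, MonObj.one_comp]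
    refine ⟨pullback.lift 1 (x ≫ incl) (by rw [MonObj.one_comp, hu]), pullback.hom_ext ?_ ?_⟩
    · rw [Category.assoc, pullback.lift_fst, ← Category.assoc, pullback.lift_fst]
      rw [show x ≫ pullback.fst h' u = 1 from hx, ← cancel_mono h', Category.assoc, hf, MonObj.one_comp,
        MonObj.one_comp]
    · rw [Category.assoc, pullback.lift_snd, pullback.lift_snd]
  have hP : P.hom = π.left ≫ H'.hom := (Over.w π).symm
  refine ⟨fun hC hH => ?_, fun hC hH s => ?_⟩
  · have : Flat P.hom := by rw [hP]; infer_instance
    have : LocallyOfFinitePresentation P.hom := by rw [hP]; infer_instance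
    exact smooth_of_geom fun s => (geom_facts π g₀ hker s).1 hC hH
  · refine connected_fibre_of_geom P s ((geom_facts π g₀ hker s).2 ?_ ?_)
    · have : LocallyOfFiniteType C.hom := by
        rw [← Over.w (pullback.fst c' u)]
        have sq' : IsPullback (pullback.fst c' u).left (pullback.snd c' u).left c'.left u.left :=
          IsPullback.map (Over.forget S) (IsPullback.of_hasPullback c' u)
        have : LocallyOfFiniteType u.left := inferInstance
        have : LocallyOfFiniteType (pullback.fst c' u).left :=
          MorphismProperty.of_isPullback (P := @LocallyOfFiniteType) sq'.flip inferInstance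
        infer_instance
      exact connected_fiber_geom C s (pullback.lift η[C'] η[G] (by rw [IsMonHom.one_hom, IsMonHom.one_hom])) (hC s)
    · exact connected_fiber_geom H' s η[H'] (hH s)

end Groth.Agent.PullSub
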